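import Cfsg.Agent.StdL34.PslCent
import Cfsg.Agent.StdL34.Cov
import Cfsg.Agent.ONType.OuterZ
set_option linter.all false

/-!
# Existence of coordinates on a perfect central extension of `PSL(3,4)` by `Z/4`
-/

set_option autoImplicit false
set_option linter.constructorNameAsVariable false

namespace Cfsg.Agent.StdL34

open Subgroup
open Cfsg.Agent.SporadicA.FieldFour
open Cfsg.Agent.ONType.Psl
open Cfsg.Agent.ONType.Lift
open Cfsg.Agent.ONType.Data
open Cfsg.Agent.ONType.OuterL (rv rv_ne rv_rv)
open Cfsg.Agent.ONType.OuterM (trn)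

/-- the exponent function of the type -/
def gty (ty : Bool) : F4 → ℕ := if ty then gII else gI

theorem gty_eq (ty : Bool) (u : F4) : gty ty u = (gx ty u : ℕ) := by
  revert ty u; decide

theorem t2_eq (u : F4) : 2 * trn u = (t2 u : ℕ) := by
  revert u; decide

/-- the number of codes -/
theorem card_code : Nat.card Code = 256 := by
  have e : Code ≃ F4 × F4 × F4 × Fin 4 :=
    { toFun := fun p => (p.a, p.b, p.c, p.k)
      invFun := fun q => ⟨q.1, q.2.1, q.2.2.1, q.2.2.2⟩
      left_inv := fun _ => rfl
      right_inv := fun _ => rfl }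
  rw [Nat.card_congr e, Nat.card_prod, Nat.card_prod, Nat.card_prod, Nat.card_eq_fintype_card,
    F4.card_eq, Nat.card_eq_fintype_card, Fintype.card_fin]

section

variable {M : Type*} [Group M] {π : M →* PSL3}

/-- the root elements, made total -/
theorem exists_cov_of [Finite M] (C : CExt π) (z : M) (ty : Bool) (hker : π.ker = zpowers z)
    (hz : orderOf z = 4) (hperf : commutator M = ⊤) (R : MRel C.x z C.h (gty ty))
    (hcen : ∀ k : M, (∀ m, k * m = m * k) → π k = 1) :
    ∃ A : Cov M, A.s = z := by
  classical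
  have hπz : π z = 1 := by
    have : z ∈ π.ker := by rw [hker]; exact mem_zpowers z
    exact this
  have hz4 : z ^ 4 = 1 := by rw [← hz]; exact pow_orderOf_eq_one z
  have hpow : ∀ y : M, π y = 1 → ∃ k : Fin 4, y = z ^ (k : ℕ) := by
    intro y hy
    have h1 : y ∈ zpowers z := by rw [← hker]; exact hy
    rw [mem_zpowers_iff_mem_range_orderOf] at h1
    obtain ⟨k, hk, hk'⟩ := Finset.mem_image.1 h1
    rw [Finset.mem_range, hz] at hk
    exact ⟨⟨k, hk⟩, hk'.symm⟩
  have hπel : ∀ p : Code, π (elx C.x z p) = t 0 1 p.a * t 1 2 p.b * t 0 2 p.c := by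
    intro p
    unfold elx
    rw [map_mul, map_mul, map_mul, map_pow, hπz, one_pow, mul_one, C.map_x 0 1 (by decide),
      C.map_x 1 2 (by decide), C.map_x 0 2 (by decide)]
  have hinj : Function.Injective (elx C.x z) := by
    intro p q h
    have h1 := congrArg π h
    rw [hπel, hπel] at h1
    obtain ⟨ha, hb, hc⟩ := Cfsg.Agent.ONType.PslCard.t_inj h1
    have hk : z ^ (p.k : ℕ) = z ^ (q.k : ℕ) := by
      unfold elx at h
      rw [ha, hb, hc] at h
      exact mul_left_cancel h
    have hk' : p.k = q.k := by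
      have h2 := pow_inj_mod.1 hk
      rw [hz] at h2
      apply Fin.ext
      rw [Nat.mod_eq_of_lt p.k.2, Nat.mod_eq_of_lt q.k.2] at h2
      exact h2
    cases p; cases q
    simp only at ha hb hc hk'
    subst ha hb hc hk'
    rfl
  have hmem : ∀ l : M, π l * t 0 2 1 = t 0 2 1 * π l ↔ ∃ p, l = elx C.x z p := by
    intro l
    rw [PslCent.cent_t02]
    constructor
    · rintro ⟨a, b, c, h⟩
      have h1 : π ((elx C.x z ⟨a, b, c, 0⟩)⁻¹ * l) = 1 := by
        rw [map_mul, map_inv, hπel, h, inv_mul_cancel]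
      obtain ⟨k, hk⟩ := hpow _ h1
      refine ⟨⟨a, b, c, k⟩, ?_⟩
      rw [inv_mul_eq_iff_eq_mul] at hk
      rw [hk]
      unfold elx
      simp
    · rintro ⟨p, rfl⟩
      exact ⟨p.a, p.b, p.c, hπel p⟩
  have hzz1 : z * z ≠ 1 := by
    intro h
    have h2 := orderOf_dvd_of_pow_eq_one (x := z) (n := 2) (by rw [pow_two]; exact h)
    rw [hz] at h2
    omega
  have hrow : ∀ u v : F4, C.x 0 1 u * C.x 0 2 v = C.x 0 2 v * C.x 0 1 u * (z * z) ^ trn (u * v) := by
    intro u v
    rw [R.row 0 1 2 (by decide) (by decide) (by decide) u v, pow_mul, pow_two]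
  have hcol : ∀ u v : F4, C.x 1 2 u * C.x 0 2 v = C.x 0 2 v * C.x 1 2 u * (z * z) ^ trn (u * v) := by
    intro u v
    rw [R.col 1 2 0 (by decide) (by decide) (by decide) u v, pow_mul, pow_two]
  have hcz : ∀ m : M, z * m = m * z := C.cen z hπz
  refine ⟨{ s := z, x := C.x, h := C.h, ty := ty, s_cen := hcz, s_pow := hz4, x_add := R.add, x_row := ?_, x_col := ?_, x_sum := ?_, x_wey := R.weyl, h_pow := R.h3, h_x := R.tor, h_eq := R.torus, el_inj := hinj, gen := ?_, odd_index := ?_, cent := ?_, r_ne := ?_, outer := ?_ }, rfl⟩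
  · intro i j k h1 h2 h3 u v
    rw [R.row i j k h1 h2 h3, t2_eq]
  · intro i j k h1 h2 h3 u v
    rw [R.col i j k h1 h2 h3, t2_eq]
  · intro i j k h1 h2 h3 u v
    rw [R.sum i j k h1 h2 h3, gty_eq, ← mul_assoc]
  · exact Cfsg.Agent.ONType.OuterC.closure_x C hperf
  · refine ⟨(centralizer ({t 0 2 1} : Set PSL3)).comap π, ?_, ?_⟩
    · intro l
      rw [mem_comap, mem_centralizer_singleton_iff]
      exact hmem l
    · have hcard : Nat.card ((centralizer ({t 0 2 1} : Set PSL3)).comap π) = 256 := by
        rw [← card_code]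
        symm
        apply Nat.card_congr
        refine Equiv.ofBijective (fun p => ⟨elx C.x z p, ?_⟩) ⟨?_, ?_⟩
        · rw [mem_comap, mem_centralizer_singleton_iff]
          exact (hmem _).2 ⟨p, rfl⟩
        · intro p q h
          exact hinj (congrArg Subtype.val h)
        · rintro ⟨l, hl⟩
          rw [mem_comap, mem_centralizer_singleton_iff] at hl
          obtain ⟨p, hp⟩ := (hmem _).1 hl
          exact ⟨p, Subtype.ext hp.symm⟩
      have hM : Nat.card M = 80640 := by
        rw [C.card_M, hker, Nat.card_zpowers, hz]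
      have h1 := Subgroup.card_mul_index ((centralizer ({t 0 2 1} : Set PSL3)).comap π)
      rw [hcard, hM] at h1
      omega
  · intro l hl
    apply (hmem l).1
    have := congrArg π hl
    rw [map_mul, map_mul, C.map_x 0 2 (by decide)] at this
    exact this
  · intro n h
    have := congrArg π h
    rw [map_pow, map_mul, C.map_x 0 2 (by decide), C.map_x 2 0 (by decide), map_one] at this
    exact PslCent.tt_pow_ne n this
  · intro α
    have hαz : α (z * z) = z * z := by
      have h1 : π (α z) = 1 := by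
        apply hcen
        intro m
        have := congrArg α (hcz (α.symm m))
        rw [map_mul, map_mul, MulEquiv.apply_symm_apply] at this
        exact this
      obtain ⟨k, hk⟩ := hpow _ h1
      have h2 : orderOf (α z) = 4 := by
        rw [← hz]; exact orderOf_injective α.toMonoidHom α.injective z
      rw [map_mul, hk, ← pow_add]
      have h3 : orderOf (z ^ (k : ℕ)) = 4 := by rw [← hk, h2]
      obtain ⟨k, hk4⟩ := k
      simp only at h3 ⊢
      interval_cases k
      · rw [pow_zero, orderOf_one] at h3; omega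
      · rw [pow_two]
      · exfalso
        have := orderOf_dvd_of_pow_eq_one (x := z ^ 2) (n := 2) (by rw [← pow_mul]; exact hz4)
        rw [h3] at this
        omega
      · show z ^ (4 + 2) = z * z
        rw [pow_add, hz4, one_mul, pow_two]
    obtain ⟨l, σ, hσ, -, hx⟩ := Cfsg.Agent.ONType.OuterM.exists_outer C hcen (z * z) hzz1 hrow hcol α
      (fun l => by
        rw [MulAut.mul_apply, MulAut.conj_apply, hαz]
        rw [← mul_assoc, ← hcz l, mul_assoc z l z, ← hcz l, ← mul_assoc, mul_inv_cancel_right])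
    have hσ' : ∃ e : Bool, ∀ u, σ u = fr e u := by
      rcases hσ with h | h
      · exact ⟨false, fun u => by rw [h]; rfl⟩
      · exact ⟨true, fun u => by rw [h]; rfl⟩
    obtain ⟨e, he⟩ := hσ'
    rcases hx with hx | hx
    · refine ⟨l, (e, false), fun i j hij u => ?_⟩
      have := hx i j hij u
      rw [MulAut.mul_apply, MulAut.conj_apply, he] at this
      exact this
    · refine ⟨l, (e, true), fun i j hij u => ?_⟩
      have := hx i j hij u
      rw [MulAut.mul_apply, MulAut.conj_apply, he] at this
      exact this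

end

/-- **Existence of coordinates.** -/
theorem exists_cov {M : Type*} [Group M] [Finite M] (hZc : IsCyclic (Subgroup.center M))
    (hZ4 : Nat.card (Subgroup.center M) = 4) (hperf : commutator M = ⊤)
    {F : Type*} [Field F] [Fintype F] (hF : Fintype.card F = 4)
    (e : M ⧸ Subgroup.center M ≃* Matrix.ProjectiveSpecialLinearGroup (Fin 3) F) :
    ∃ A : Cov M, Subgroup.center M = zpowers A.s ∧ orderOf A.s = 4 ∧ Nat.card M = 80640 := by
  obtain ⟨e'⟩ := nonempty_psl_equiv (n := Fin 3) F hF
  obtain ⟨π, C, z, hker, hcz, hz, hR⟩ := exists_data (M := M) hZc hZ4 hperf F4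
    F4.card_eq (e.trans e'.symm)
  have hcen : ∀ k : M, (∀ m, k * m = m * k) → π k = 1 := by
    intro k hk
    have : k ∈ π.ker := by
      rw [hker, Subgroup.mem_center_iff]
      exact fun m => (hk m).symm
    exact this
  have hcard : Nat.card M = 80640 := by
    rw [C.card_M, hker, hcz, Nat.card_zpowers, hz]
  have hex : ∃ ty, MRel C.x z C.h (gty ty) := by
    rcases hR with h | h
    · exact ⟨false, h⟩
    · exact ⟨true, h⟩
  obtain ⟨ty, R⟩ := hex
  obtain ⟨A, hA⟩ := exists_cov_of C z ty (hker.trans hcz) hz hperf R hcen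
  exact ⟨A, by rw [hA, hcz], by rw [hA, hz], hcard⟩

end Cfsg.Agent.StdL34
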